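import Groth.Prelude.Def_W4stkalgebra1Int
import Mathlib

/-!
# Integrality over an ideal through the Rees algebra
-/

set_option autoImplicit false

universe u v

open Polynomial

namespace Groth.Agent.IntIdealH1

variable {R : Type u} {S : Type v} [CommRing R] [CommRing S] [Algebra R S] (I : Ideal R)

/-- The map from the Rees algebra to the polynomial ring of the algebra. -/
noncomputable def reesMap : reesAlgebra I →+* S[X] :=
  (mapRingHom (algebraMap R S)).comp (reesAlgebra I).val.toRingHom

variable {I}

theorem iff_isIntegralElem (s : S) :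
    W4stkalgebra1.IsIntegralOverIdeal I s ↔ (reesMap (S := S) I).IsIntegralElem (C s * X) := by
  constructor
  · rintro ⟨p, hp, hc, he⟩
    let d := p.natDegree
    let a : ℕ → reesAlgebra I := fun j => if h : j < d then
      ⟨monomial (d - j) (p.coeff j), reesAlgebra.monomial_mem.2 (hc j h)⟩ else 0
    refine ⟨X ^ d + ∑ j ∈ Finset.range d, C (a j) * X ^ j, monic_X_pow_add ?_, ?_⟩
    · refine lt_of_le_of_lt (degree_sum_le _ _) ((Finset.sup_lt_iff (WithBot.bot_lt_coe d)).2 fun j hj => ?_)
      exact lt_of_le_of_lt (degree_C_mul_X_pow_le _ _) (WithBot.coe_lt_coe.2 (Finset.mem_range.1 hj))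
    · have ha : ∀ j ∈ Finset.range d, reesMap (S := S) I (a j) * (C s * X) ^ j =
          C (algebraMap R S (p.coeff j) * s ^ j) * X ^ d := by
        intro j hj
        rw [Finset.mem_range] at hj
        simp only [a, dif_pos hj, reesMap, RingHom.comp_apply]
        rw [show (reesAlgebra I).val.toRingHom ⟨monomial (d - j) (p.coeff j), _⟩ = monomial (d - j) (p.coeff j) from rfl,
          coe_mapRingHom, map_monomial, mul_pow, ← C_mul_X_pow_eq_monomial, map_mul C, map_pow C]
        conv_rhs => rw [show d = (d - j) + j by omega, pow_add]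
        ring
      rw [eval₂_add, eval₂_X_pow, eval₂_finsetSum]
      simp only [eval₂_mul, eval₂_C, eval₂_X_pow]
      rw [Finset.sum_congr rfl ha, ← Finset.sum_mul, ← map_sum, mul_pow, ← map_pow, ← add_mul, ← map_add]
      rw [eval₂_eq_sum_range, Finset.sum_range_succ] at he
      have hlead : algebraMap R S (p.coeff p.natDegree) = 1 := by rw [hp.coeff_natDegree, map_one]
      rw [hlead, one_mul, add_comm] at he
      rw [he, map_zero, zero_mul]
  · rintro ⟨q, hq, he⟩
    rcases subsingleton_or_nontrivial R with hR | hR
    · haveI : Subsingleton S := (algebraMap R S).codomain_trivial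
      exact ⟨1, monic_one, fun j hj => by simp at hj, Subsingleton.elim _ _⟩
    let d := q.natDegree
    let f : R[X] := X ^ d + ∑ j ∈ Finset.range d, C (((q.coeff j : reesAlgebra I) : R[X]).coeff (d - j)) * X ^ j
    have hlt : (∑ j ∈ Finset.range d, C (((q.coeff j : reesAlgebra I) : R[X]).coeff (d - j)) * X ^ j).degree < (d : WithBot ℕ) := by
      refine lt_of_le_of_lt (degree_sum_le _ _) ((Finset.sup_lt_iff (WithBot.bot_lt_coe d)).2 fun j hj => ?_)
      exact lt_of_le_of_lt (degree_C_mul_X_pow_le _ _) (WithBot.coe_lt_coe.2 (Finset.mem_range.1 hj))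
    have hmon : f.Monic := monic_X_pow_add hlt
    have hnd : f.natDegree = d := by
      rw [natDegree_eq_of_degree_eq_some]
      rw [degree_add_eq_left_of_degree_lt (by rwa [degree_X_pow]), degree_X_pow]
    refine ⟨f, hmon, fun j hj => ?_, ?_⟩
    · rw [hnd] at hj ⊢
      rw [show f.coeff j = ((q.coeff j : reesAlgebra I) : R[X]).coeff (d - j) by
        simp [f, coeff_X_pow, hj.ne, finsetSum_coeff, hj]]
      exact (q.coeff j).2 (d - j)
    · have h := congrArg (fun z : S[X] => z.coeff d) he
      simp only [coeff_zero] at h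
      rw [eval₂_eq_sum_range, Finset.sum_range_succ, coeff_add, finsetSum_coeff] at h
      have hj : ∀ j ∈ Finset.range d, (reesMap (S := S) I (q.coeff j) * (C s * X) ^ j).coeff d =
          algebraMap R S (((q.coeff j : reesAlgebra I) : R[X]).coeff (d - j)) * s ^ j := by
        intro j hj
        rw [Finset.mem_range] at hj
        rw [mul_pow, ← map_pow, ← mul_assoc, coeff_mul_X_pow', if_pos hj.le, coeff_mul_C, reesMap,
          RingHom.comp_apply, coe_mapRingHom, coeff_map]
        rfl
      rw [Finset.sum_congr rfl hj, show q.coeff q.natDegree = 1 from hq.coeff_natDegree, map_one, one_mul,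
        mul_pow, ← map_pow, coeff_C_mul_X_pow, if_pos rfl] at h
      rw [eval₂_add, eval₂_X_pow, eval₂_finsetSum]
      simp only [eval₂_mul, eval₂_C, eval₂_X_pow]
      rw [add_comm]
      exact h

end Groth.Agent.IntIdealH1
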